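import Groth.Agent.DerivedCoh.PCohNil.Stalk
import Groth.Agent.DerivedCoh.PCoh.ModuleFP
import Groth.Agent.FlatMor2.NilBaseChange
import Groth.Agent.SchemeMorphisms.AssRestrict
import Groth.Agent.SchemeMorphisms.PrinParts.FlatExact

/-!
Finite presentation of flat modules descends along nilpotent thickenings of the base.
-/

universe u

open CategoryTheory CategoryTheory.Limits AlgebraicGeometry TopologicalSpace
open scoped TensorProduct
open Groth.QCohMod (pullStalkEquiv stalkAlg)
open Groth.OmegaSheaf (stalkApp)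

namespace Groth.DerivedCoh.PCohNil

attribute [local instance] HasDerivedCategory.standard
set_option linter.style.haveILetI false

section Algebra

variable {B S : Type u} [CommRing B] [CommRing S] [Algebra B S]

/-- `1 ⊗ x = 0` means `x` lies in the multiples of the kernel. -/
theorem mem_smul_top_of_one_tmul (hs : Function.Surjective (algebraMap B S)) {M : Type u} [AddCommGroup M]
    [Module B M] {x : M} (hx : (1 : S) ⊗ₜ[B] x = 0) : x ∈ RingHom.ker (algebraMap B S) • (⊤ : Submodule B M) := by
  let I := RingHom.ker (algebraMap B S)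
  have hex : Function.Exact I.subtype (Algebra.linearMap B S) := fun r => by simp [I, RingHom.mem_ker]
  obtain ⟨t, ht⟩ := (rTensor_exact M hex hs ((1 : B) ⊗ₜ[B] x)).1 (by
    show (Algebra.linearMap B S 1) ⊗ₜ[B] x = 0
    rwa [Algebra.linearMap_apply, map_one])
  have key : ∀ t, TensorProduct.lid B M (I.subtype.rTensor M t) ∈ I • (⊤ : Submodule B M) := fun t => by
    induction t with
    | zero => simp
    | tmul i q => simpa using Submodule.smul_mem_smul i.2 (Submodule.mem_top (x := q))
    | add u v hu hv => rw [map_add, map_add]; exact add_mem hu hv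
  simpa [ht] using key t

/-- Reducing modulo the extension of an ideal preserves kernels of surjections onto flat modules. -/
theorem injective_lTensor_of_flat {R : Type u} [CommRing R] [Algebra R B] (hs : Function.Surjective (algebraMap B S))
    (I₀ : Ideal R) (hI : RingHom.ker (algebraMap B S) = I₀.map (algebraMap R B))
    {K P M : Type u} [AddCommGroup K] [Module B K] [AddCommGroup P] [Module B P] [AddCommGroup M] [Module B M]
    [Module R K] [IsScalarTower R B K] [Module R P] [IsScalarTower R B P] [Module R M] [IsScalarTower R B M]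
    [Module.Flat R M] (ι : K →ₗ[B] P) (π : P →ₗ[B] M) (hι : Function.Injective ι) (hex : Function.Exact ι π)
    (hπ : Function.Surjective π) : Function.Injective (ι.lTensor S) := by
  rw [injective_iff_map_eq_zero]
  intro z hz
  obtain ⟨k, rfl⟩ : ∃ k, (1 : S) ⊗ₜ[B] k = z := by
    clear hz
    induction z with
    | zero => exact ⟨0, TensorProduct.tmul_zero _ _⟩
    | tmul c k =>
      obtain ⟨c, rfl⟩ := hs c
      exact ⟨c • k, by simp [TensorProduct.smul_tmul', Algebra.algebraMap_eq_smul_one]⟩
    | add u v hu hv =>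
      obtain ⟨a, rfl⟩ := hu
      obtain ⟨b, rfl⟩ := hv
      exact ⟨a + b, TensorProduct.tmul_add _ _ _⟩
  rw [LinearMap.lTensor_tmul] at hz
  have h1 := mem_smul_top_of_one_tmul hs hz
  rw [hI] at h1
  have h2 : ι k ∈ I₀ • (⊤ : Submodule R P) := by
    refine Submodule.smul_induction_on h1 (fun r hr p _ => ?_) fun a b ha hb => add_mem ha hb
    revert p
    refine Submodule.span_induction ?_ ?_ ?_ ?_ hr
    · rintro _ ⟨a, ha, rfl⟩ p -
      rw [algebraMap_smul]
      exact Submodule.smul_mem_smul ha trivial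
    · intro p _; rw [zero_smul]; exact zero_mem _
    · intro a b _ _ ha hb p _; rw [add_smul]; exact add_mem (ha p trivial) (hb p trivial)
    · intro c r _ h p _; rw [smul_eq_mul, mul_comm, mul_smul]; exact h _ trivial
  let l : I₀ ⊗[R] P →ₗ[R] P := (TensorProduct.lid R P).toLinearMap ∘ₗ I₀.subtype.rTensor P
  have hl : I₀ • (⊤ : Submodule R P) ≤ LinearMap.range l := Submodule.smul_le.2 fun r hr p _ =>
    ⟨⟨r, hr⟩ ⊗ₜ p, by simp [l]⟩
  obtain ⟨w, hw⟩ := hl h2
  let π' : P →ₗ[R] M := π.restrictScalars R
  let ι' : K →ₗ[R] P := ι.restrictScalars R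
  have hflat : Function.Injective (I₀.subtype.rTensor M) := Module.Flat.rTensor_preserves_injective_linearMap _ Subtype.val_injective
  have hnat : ∀ w, π' (l w) = TensorProduct.lid R M (I₀.subtype.rTensor M (π'.lTensor I₀ w)) := fun w => by
    induction w with
    | zero => simp
    | tmul a b => simp [l, π']
    | add u v hu hv => simp only [map_add, hu, hv]
  have hnatι : ∀ v, ι' (TensorProduct.lid R K (I₀.subtype.rTensor K v)) = l (ι'.lTensor I₀ v) := fun v => by
    induction v with
    | zero => simp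
    | tmul a b => simp [l, ι']
    | add u v hu hv => simp only [map_add, hu, hv]
  have hw0 : π'.lTensor I₀ w = 0 := by
    apply hflat
    apply (TensorProduct.lid R M).injective
    rw [← hnat, hw, map_zero, map_zero]
    exact hex.apply_apply_eq_zero k
  obtain ⟨v, rfl⟩ := (lTensor_exact I₀ (f := ι') (g := π') hex hπ w).1 hw0
  rw [← hnatι] at hw
  rw [← hι hw]
  clear hw hw0
  induction v with
  | zero => simp
  | tmul a b =>
    rw [LinearMap.rTensor_tmul, TensorProduct.lid_tmul, Submodule.coe_subtype]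
    rw [show (a : R) • b = algebraMap R B a • b from (algebraMap_smul B (a : R) b).symm, ← TensorProduct.smul_tmul,
      Algebra.smul_def, show algebraMap B S (algebraMap R B a) = 0 from by
        have : algebraMap R B a ∈ RingHom.ker (algebraMap B S) := hI ▸ Ideal.mem_map_of_mem _ a.2
        exact this, zero_mul, TensorProduct.zero_tmul]
  | add u v hu hv => rw [map_add, map_add, TensorProduct.tmul_add, hu, hv, add_zero]

end Algebra

variable {X X' T T' : Scheme.{u}} {i : X ⟶ X'} {q : X ⟶ T} {q' : X' ⟶ T'} {t : T ⟶ T'}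

/-- The stalk ideals of a base changed closed immersion are extended from the base. -/
theorem ker_stalkMap_of_isPullback (sq : IsPullback i q q' t) [IsClosedImmersion t] (x : X) :
    ∃ I₀ : Ideal (T'.presheaf.stalk (q' (i x))), RingHom.ker (i.stalkMap x).hom = I₀.map (q'.stalkMap (i x)).hom ∧
      ∀ N : ℕ, t.ker ^ N = ⊥ → I₀ ^ N = ⊥ := by
  haveI : IsClosedImmersion i := Groth.FlatMor2.isClosedImmersion_of_isPullback sq
  obtain ⟨V, hV, hxV, -⟩ := exists_isAffineOpen_mem_and_subset (U := (⊤ : T'.Opens)) (x := q' (i x)) trivial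
  obtain ⟨U, hU, hxU, hUV⟩ := exists_isAffineOpen_mem_and_subset (show i x ∈ q' ⁻¹ᵁ V from hxV)
  refine ⟨(t.ker.ideal ⟨V, hV⟩).map (T'.presheaf.germ V (q' (i x)) hxV).hom, ?_, fun N hN => ?_⟩
  · refine (Groth.Ega4b.ker_stalkMap_eq_map i hU x hxU).trans
      ((congrArg _ (Groth.FlatMor2.ker_ideal_eq_map sq hV hU hUV)).trans ?_)
    rw [Ideal.map_map, Ideal.map_map, ← CommRingCat.hom_comp, ← CommRingCat.hom_comp]
    congr 2
    rw [Scheme.Hom.germ_stalkMap]
    simp only [Scheme.Hom.appLE, Category.assoc, TopCat.Presheaf.germ_res]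
  · have h0 : (t.ker.ideal ⟨V, hV⟩) ^ N = ⊥ := by
      have := congr($(hN).ideal ⟨V, hV⟩)
      simpa using this
    rw [← Ideal.map_pow, h0, Ideal.map_bot]

theorem nilThick_of_isPullback (sq : IsPullback i q q' t) (ht : MoreMor.IsFiniteOrderThickening t) : NilThick i := by
  obtain ⟨⟨hc, hs⟩, N, hN⟩ := ht
  haveI := hc
  haveI := hs
  haveI : IsClosedImmersion i := Groth.FlatMor2.isClosedImmersion_of_isPullback sq
  haveI : Surjective i := MorphismProperty.of_isPullback sq.flip hs
  refine ⟨isHomeomorph_iff_isEmbedding_surjective.2 ⟨i.isClosedEmbedding.isEmbedding, i.surjective⟩,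
    fun x => ⟨i.stalkMap_surjective x, N, ?_⟩⟩
  obtain ⟨I₀, hI₀, hN₀⟩ := ker_stalkMap_of_isPullback sq x
  rw [hI₀, ← Ideal.map_pow, hN₀ N hN, Ideal.map_bot, Ideal.zero_eq_bot]

/-- Inverse images of kernels of surjections onto flat modules. -/
theorem mono_pullback_of_flat (sq : IsPullback i q q' t) [IsClosedImmersion t] (S : ShortComplex X'.Modules)
    (hS : S.ShortExact) (hF : FlatMod.IsFlatOver q' S.X₃) : Mono ((Scheme.Modules.pullback i).map S.f) := by
  haveI : IsClosedImmersion i := Groth.FlatMor2.isClosedImmersion_of_isPullback sq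
  rw [Groth.QCohMod.mono_iff_stalk]
  intro x
  obtain ⟨I₀, hI₀, -⟩ := ker_stalkMap_of_isPullback sq x
  let _ := stalkAlg i x
  let φ : ∀ {M N : X'.Modules} (_ : M ⟶ N), M.presheaf.stalk (i x) →ₗ[X'.presheaf.stalk (i x)] N.presheaf.stalk (i x) :=
    fun {M N} f =>
      { toFun := fun t => stalkApp f (i x) t
        map_add' := map_add _
        map_smul' := fun r t => Groth.OmegaSheaf.stalk_map_smul f (i x) r t }
  let R := T'.presheaf.stalk (q' (i x))
  letI : Algebra R (X'.presheaf.stalk (i x)) := (q'.stalkMap (i x)).hom.toAlgebra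
  letI := FlatMod.moduleStalkOver q' S.X₁ (i x)
  letI := FlatMod.moduleStalkOver q' S.X₂ (i x)
  letI := FlatMod.moduleStalkOver q' S.X₃ (i x)
  haveI : IsScalarTower R (X'.presheaf.stalk (i x)) (S.X₁.presheaf.stalk (i x)) := .of_algebraMap_smul fun _ _ => rfl
  haveI : IsScalarTower R (X'.presheaf.stalk (i x)) (S.X₂.presheaf.stalk (i x)) := .of_algebraMap_smul fun _ _ => rfl
  haveI : IsScalarTower R (X'.presheaf.stalk (i x)) (S.X₃.presheaf.stalk (i x)) := .of_algebraMap_smul fun _ _ => rfl
  haveI : Module.Flat R (S.X₃.presheaf.stalk (i x)) := hF (i x)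
  haveI := hS.mono_f
  haveI := hS.epi_g
  have hex : Function.Exact (φ S.f) (φ S.g) :=
    (ShortComplex.ab_exact_iff_function_exact _).1 ((Groth.QCohMod.exact_iff_stalk _).1 hS.exact (i x))
  have key : Function.Injective ((φ S.f).lTensor (X.presheaf.stalk x)) :=
    injective_lTensor_of_flat (i.stalkMap_surjective x) I₀ hI₀ (φ S.f) (φ S.g)
      ((Groth.QCohMod.mono_iff_stalk S.f).1 inferInstance (i x)) hex
      ((Groth.QCohMod.epi_iff_stalk S.g).1 inferInstance (i x))
  intro a b hab
  obtain ⟨a, rfl⟩ := (pullStalkEquiv i S.X₁ x).surjective a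
  obtain ⟨b, rfl⟩ := (pullStalkEquiv i S.X₁ x).surjective b
  rw [Groth.PrinPartsAux.stalk_map_pullback i S.f x (φ S.f) (fun _ => rfl),
    Groth.PrinPartsAux.stalk_map_pullback i S.f x (φ S.f) (fun _ => rfl)] at hab
  exact congrArg _ (key ((pullStalkEquiv i S.X₂ x).injective hab))

/-- Flatness over the base passes to open subschemes. -/
theorem isFlatOver_restrict {U : Scheme.{u}} (j : U ⟶ X') [IsOpenImmersion j] {F : X'.Modules}
    (hF : FlatMod.IsFlatOver q' F) : FlatMod.IsFlatOver (j ≫ q') (F.restrict j) := by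
  intro z
  let R := T'.presheaf.stalk ((j ≫ q') z)
  letI : Module R (F.presheaf.stalk (j z)) := FlatMod.moduleStalkOver q' F (j z)
  haveI : Module.Flat R (F.presheaf.stalk (j z)) := hF (j z)
  letI : Module R ((F.restrict j).presheaf.stalk z) := FlatMod.moduleStalkOver (j ≫ q') (F.restrict j) z
  refine Module.Flat.of_linearEquiv
    (LinearEquiv.ofBijective (σ₁₂ := RingHom.id R)
      { toFun := Groth.SchemeMorphisms.restrictStalkEquiv j F z
        map_add' := map_add _
        map_smul' := fun r m => ?_ } (Groth.SchemeMorphisms.restrictStalkEquiv j F z).bijective)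
  refine (Groth.SchemeMorphisms.restrictStalkEquiv_smul j F z _ m).trans ?_
  show _ = (q'.stalkMap (j z)).hom r • Groth.SchemeMorphisms.restrictStalkEquiv j F z m
  congr 1
  rw [Scheme.Hom.stalkMap_comp]
  exact IsIso.hom_inv_id_apply (f := j.stalkMap z) _

theorem isFP_of_pullback_of_generators (sq : IsPullback i q q' t) (ht : MoreMor.IsFiniteOrderThickening t)
    {F : X'.Modules} (hF : FlatMod.IsFlatOver q' F)
    (G : SheafOfModules.GeneratingSections (R := X'.ringCatSheaf) F) (hG : Finite G.I)
    (h : CohB1.IsFP ((Scheme.Modules.pullback i).obj F)) : CohB1.IsFP F := by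
  haveI := ht.1.1
  haveI := hG
  let P := Scheme.Modules.pullback i
  haveI := (Scheme.Modules.pullbackPushforwardAdjunction i).leftAdjoint_preservesColimits
  haveI : P.Additive := Adjunction.left_adjoint_additive (Scheme.Modules.pullbackPushforwardAdjunction i)
  let π : Groth.LocFree.freeOn X' G.I ⟶ F := G.π
  have : Epi π := G.epi
  let S : ShortComplex X'.Modules := ShortComplex.mk (kernel.ι π) π (kernel.condition π)
  have hS : S.ShortExact := { exact := ShortComplex.exact_of_f_is_kernel S (kernelIsKernel π) }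
  haveI : Mono (P.map S.f) := mono_pullback_of_flat sq S hS hF
  have hPS : (S.map P).ShortExact := by
    haveI : Epi S.g := hS.epi_g
    exact { exact := ((Functor.preservesFiniteColimits_iff_forall_exact_map_and_epi _).1 inferInstance S hS).1
            mono_f := inferInstanceAs (Mono (P.map S.f))
            epi_g := inferInstanceAs (Epi (P.map S.g)) }
  have hfree := PCoh.isFinLocFree_freeOn (X := X') G.I
  have h2 : DCoh.IsPseudoCoherentD 0 (DCoh.inD X' S.X₂) :=
    PCoh.isPseudoCoherentD_of_isPerfect (PCoh.isPerfect_inD hfree) 0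
  have hK : CohB1.IsFT S.X₁ := by
    refine isFT_descends (nilThick_of_isPullback sq ht) _ ((PCoh.pseudoCoherent_inD_iff _).1.1 ?_)
    have h2' : DCoh.IsPseudoCoherentD (-1 + 1) hPS.singleTriangle.obj₂ := by
      rw [show (-1 : ℤ) + 1 = 0 from rfl]
      exact PCoh.isPseudoCoherentD_of_isFT (Groth.QCohMod.isFT_pullback i _ ((PCoh.pseudoCoherent_inD_iff _).1.1 h2))
    have h1 := PCoh.isPseudoCoherentD_obj₁ (m := -1) hPS.singleTriangle hPS.singleTriangle_distinguished h2'
      (PCoh.isPseudoCoherentD_of_isFP h)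
    rw [show (-1 : ℤ) + 1 = 0 from rfl] at h1
    exact h1
  exact (PCoh.pseudoCoherent_inD_iff F).2.1 (PCoh.isPseudoCoherentD_obj₃ (m := -1) hS.singleTriangle
    hS.singleTriangle_distinguished (PCoh.isPseudoCoherentD_of_isFT hK)
    (PCoh.isPseudoCoherentD_of_isPerfect (PCoh.isPerfect_inD hfree) _))

/-- Finite presentation of modules flat over the base descends along thickenings of the base. -/
theorem isFP_of_pullback (sq : IsPullback i q q' t) (ht : MoreMor.IsFiniteOrderThickening t)
    {F : X'.Modules} (hF : FlatMod.IsFlatOver q' F) (h : CohB1.IsFP ((Scheme.Modules.pullback i).obj F)) :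
    CohB1.IsFP F := by
  have hFT : CohB1.IsFT F := isFT_descends (nilThick_of_isPullback sq ht) _
    ((PCoh.pseudoCoherent_inD_iff _).1.1 (PCohDescent.pcoh_mono (PCoh.isPseudoCoherentD_of_isFP h) (by omega)))
  refine (PCoh.pseudoCoherent_inD_iff F).2.1 (PCoh.isPseudoCoherentD_of_local fun x => ?_)
  obtain ⟨V, hxV, G, hG⟩ := Groth.QCohMod.exists_generators_of_isFT F hFT x
  refine ⟨V, hxV, PCoh.isPseudoCoherentD_of_iso (PCoh.rdInDIso _ F).symm (PCoh.isPseudoCoherentD_of_isFP ?_)⟩
  refine isFP_of_pullback_of_generators ((isPullback_morphismRestrict i V).flip.paste_horiz sq.flip).flip ht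
    (isFlatOver_restrict V.ι hF) G hG ?_
  haveI : (SheafOfModules.isFinitePresentation (i ⁻¹ᵁ V : Scheme.{u}).ringCatSheaf).IsClosedUnderIsomorphisms := inferInstance
  exact (SheafOfModules.isFinitePresentation (i ⁻¹ᵁ V : Scheme.{u}).ringCatSheaf).prop_of_iso
    (((Scheme.Modules.pullbackComp (i ⁻¹ᵁ V).ι i).app F) ≪≫
      (Scheme.Modules.pullbackCongr (morphismRestrict_ι i V).symm).app F ≪≫
      ((Scheme.Modules.pullbackComp (i ∣_ V) V.ι).app F).symm ≪≫
      (Scheme.Modules.pullback (i ∣_ V)).mapIso ((Scheme.Modules.restrictFunctorIsoPullback V.ι).app F).symm)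
    (Groth.QCohMod.isFP_pullback (i ⁻¹ᵁ V).ι _ h)

end Groth.DerivedCoh.PCohNil
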