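import Groth.Agent.DerivedCoh.PCohNil.Stalk

/-!
Pseudo-coherence descends along nilpotent thickenings.
-/

universe u

open CategoryTheory CategoryTheory.Limits CategoryTheory.Pretriangulated AlgebraicGeometry HomologicalComplex
  TopologicalSpace
open Groth.KTheory.Perf (Rd Rc rdQIso exists_rep nonempty_hdRd)
open Groth.DerivedCoh.KFlat (stk T IsKFlat pullCx)
open Groth.DerivedCoh.PCoh (Near Below)

namespace Groth.DerivedCoh.PCohNil

attribute [local instance] HasDerivedCategory.standard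
set_option linter.style.haveILetI false

local notation "up" => ComplexShape.up ℤ

section Generic

universe v₁ v₂ u₁ u₂

variable {A : Type u₁} [Category.{v₁} A] [Abelian A] {B : Type u₂} [Category.{v₂} B] [Abelian B]

/-- Top cohomology is a cokernel. -/
theorem nonempty_top_coker (C : CochainComplex A ℤ) (t : ℤ) (h : IsZero (C.X (t + 1))) :
    Nonempty (C.homology t ≅ cokernel (C.d (t - 1) t)) :=
  ⟨C.isoHomologyι t (t + 1) (by simp) (h.eq_of_tgt _ _) ≪≫
    (IsColimit.coconePointUniqueUpToIso (C.opcyclesIsCokernel (t - 1) t (by simp)) (colimit.isColimit _))⟩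

/-- Right exact functors commute with top cohomology. -/
theorem nonempty_top_map (F : A ⥤ B) [F.Additive] [PreservesFiniteColimits F] (C : CochainComplex A ℤ) (t : ℤ)
    (h : IsZero (C.X (t + 1))) :
    Nonempty (((F.mapHomologicalComplex up).obj C).homology t ≅ F.obj (C.homology t)) := by
  obtain ⟨a⟩ := nonempty_top_coker ((F.mapHomologicalComplex up).obj C) t (F.map_isZero h)
  obtain ⟨b⟩ := nonempty_top_coker C t h
  exact ⟨a ≪≫ (PreservesCokernel.iso F (C.d (t - 1) t)).symm ≪≫ F.mapIso b.symm⟩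

end Generic

variable {X Y : Scheme.{u}}

/-- Derived inverse images of bounded above objects. -/
theorem Lpull_top (f : X ⟶ Y) [DCoh.HasLpull f] {E : DCoh.D Y} {t : ℤ} (h0 : ∀ i, t < i → IsZero (DCoh.HD E i)) :
    (∀ i, t < i → IsZero (DCoh.HD ((DCoh.Lpull f).obj E) i)) ∧
      Nonempty (DCoh.HD ((DCoh.Lpull f).obj E) t ≅ (Scheme.Modules.pullback f).obj (DCoh.HD E t)) := by
  obtain ⟨C₀, ⟨e₀⟩⟩ := exists_rep E
  have hle : C₀.IsLE t := (CochainComplex.isLE_iff C₀ t).2 fun i hi => by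
    rw [exactAt_iff_isZero_homology]
    exact (h0 i hi).of_iso (((DerivedCategory.homologyFunctorFactors _ i).app C₀).symm ≪≫
      (DerivedCategory.homologyFunctor _ i).mapIso e₀)
  let C := C₀.truncLE t
  have hC : ∀ p, t < p → IsZero (C.X p) := fun p hp => C.isZero_of_isStrictlyLE t p hp
  have := (KFlat.schemeCover Y).quasiIso_resAug C t hC
  let P := (KFlat.schemeCover Y).res.obj C
  let β : P ⟶ C₀ := (KFlat.schemeCover Y).resAug.app C ≫ C₀.ιTruncLE t
  have hP0 : ∀ p, t < p → IsZero (P.X p) := (KFlat.schemeCover Y).res_X_zero C t hC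
  have hPf : ∀ n, FlatMod.IsFlat (P.X n) := fun n =>
    (KFlat.schemeCover Y).res_X_prop FlatMod.IsFlat KFlat.isFlat_coverObj
      (fun _ => KFlat.isFlat_of_isZero)
      (fun e h => Groth.CohTwo.isFlat_of_iso e.symm h) KFlat.isFlat_sigma₀ C n
  have hK : IsKFlat (T Y) P := KFlat.isKFlat_of_flat (T Y) _ t hP0 fun q => KFlat.flat_of_isFlat (hPf q)
  have hβ : QuasiIso β := by dsimp [β]; infer_instance
  let eP : DCoh.toD Y P ≅ E := asIso (DerivedCategory.Q.map β) ≪≫ e₀
  let F := Scheme.Modules.pullback f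
  haveI : F.IsLeftAdjoint := (Scheme.Modules.pullbackPushforwardAdjunction f).isLeftAdjoint
  haveI := (Scheme.Modules.pullbackPushforwardAdjunction f).leftAdjoint_preservesColimits
  haveI : F.Additive := Adjunction.left_adjoint_additive (Scheme.Modules.pullbackPushforwardAdjunction f)
  let eL : (DCoh.Lpull f).obj E ≅ DCoh.toD X ((pullCx f).obj P) :=
    (DCoh.Lpull f).mapIso eP.symm ≪≫ KFlat.lpullQIso f P hK
  constructor
  · intro i hi
    exact (ExactAt.of_isZero (F.map_isZero (hP0 i hi))).isZero_homology.of_iso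
      ((DerivedCategory.homologyFunctor _ i).mapIso eL ≪≫
        (DerivedCategory.homologyFunctorFactors _ i).app ((pullCx f).obj P))
  · obtain ⟨e⟩ := nonempty_top_map F P t (hP0 (t + 1) (by omega))
    exact ⟨(DerivedCategory.homologyFunctor _ t).mapIso eL ≪≫
      (DerivedCategory.homologyFunctorFactors _ t).app ((pullCx f).obj P) ≪≫ e ≪≫
      F.mapIso (((DerivedCategory.homologyFunctorFactors _ t).app P).symm ≪≫
        (DerivedCategory.homologyFunctor _ t).mapIso eP)⟩

/-- Upper bounds on cohomology descend along nilpotent thickenings. -/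
theorem exists_local_bound {f : X ⟶ Y} (hf : NilThick f) [DCoh.HasLpull f] {E : DCoh.D Y} {m : ℤ}
    (h : DCoh.IsPseudoCoherentD m ((DCoh.Lpull f).obj E)) (z : Y) :
    ∃ (W : Y.Opens) (b : ℤ), z ∈ W ∧ ∀ i, b < i → IsZero (DCoh.HD ((Rd W.ι).obj E) i) := by
  obtain ⟨x, rfl⟩ := hf.1.surjective z
  obtain ⟨V, b, hxV, hV⟩ := PCohDescent.exists_local_bound h x
  obtain ⟨G, ⟨eG⟩⟩ := exists_rep E
  have := KFlat.flatResolution_quasiIso G
  let P := (KFlat.flatResolution Y).obj G
  have hP : IsKFlat (T Y) P := KFlat.flatResolution_isKFlat G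
  let eP : DCoh.toD Y P ≅ E := asIso (DerivedCategory.Q.map ((KFlat.flatResolutionAug Y).app G)) ≪≫ eG
  let W : Y.Opens := ⟨f.base '' V, hf.1.isOpenMap _ V.2⟩
  refine ⟨W, b, ⟨x, hxV, rfl⟩, fun i hi => ?_⟩
  refine IsZero.of_iso (Fibre.isZero_of_stk fun v => ?_) (nonempty_hdRd W.ι E i).some
  obtain ⟨y, hy, hyv⟩ := v.2
  have h1 : IsZero ((stk (f y)).obj (P.homology i)) := isZero_stk_homology hf P hP y (fun j hj =>
    (hV j hj y hy).of_iso ((stk y).mapIso
      (((DerivedCategory.homologyFunctorFactors _ j).app ((pullCx f).obj P)).symm ≪≫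
        (DerivedCategory.homologyFunctor _ j).mapIso
          ((KFlat.lpullQIso f P hP).symm ≪≫ (DCoh.Lpull f).mapIso eP)))) i hi
  have h1' : IsZero ((stk (f y)).obj (DCoh.HD E i)) := h1.of_iso ((stk (f y)).mapIso
    ((DerivedCategory.homologyFunctor _ i).mapIso eP.symm ≪≫
      (DerivedCategory.homologyFunctorFactors _ i).app P))
  have h2 : Subsingleton ((Groth.QCohMod.stalk (W.ι v)).obj (DCoh.HD E i)) := by
    have hv : W.ι v = f y := hyv.symm
    rw [hv]
    exact ModuleCat.subsingleton_of_isZero h1'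
  have : Subsingleton ((Groth.QCohMod.stalk v).obj ((DCoh.HD E i).restrict W.ι)) :=
    AddCommGrpCat.subsingleton_of_isZero ((AddCommGrpCat.isZero_of_subsingleton _).of_iso
      ((Scheme.Modules.restrictStalkNatIso W.ι v).app (DCoh.HD E i)))
  exact ModuleCat.isZero_iff_subsingleton.2 this

/-- Descent by induction on the top cohomology. -/
theorem descend_aux (n : ℕ) : ∀ {X Y : Scheme.{u}} (f : X ⟶ Y) [DCoh.HasLpull f], NilThick f →
    ∀ (E : DCoh.D Y) (m : ℤ), DCoh.IsPseudoCoherentD m ((DCoh.Lpull f).obj E) →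
    (∀ i, m + n ≤ i → IsZero (DCoh.HD E i)) → DCoh.IsPseudoCoherentD m E := by
  induction n with
  | zero =>
    intro X Y f _ _ E m _ hE
    rw [PCoh.isPseudoCoherentD_iff]
    intro x
    let P : CochainComplex ((⊤ : Y.Opens) : Scheme.{u}).Modules ℤ := HomologicalComplex.zero
    have hz : ∀ i, IsZero (P.X i) := fun i => isZero_zero _
    have hP : ∀ i, IsZero ((DerivedCategory.homologyFunctor _ i).obj (DCoh.toD _ P)) := fun i =>
      (ExactAt.of_isZero (hz i)).isZero_homology.of_iso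
        ((DerivedCategory.homologyFunctorFactors _ i).app P)
    have hK : ∀ i, m ≤ i → IsZero ((DerivedCategory.homologyFunctor _ i).obj
        ((Rd (⊤ : Y.Opens).ι).obj E)) := fun i hi =>
      ((Scheme.Modules.restrictFunctor _).map_isZero (hE i (by simpa using hi))).of_iso
        (nonempty_hdRd _ E i).some
    refine ⟨⊤, trivial, P, 0, ⟨⟨0, 0, fun i _ => hz i⟩,
      fun i => Groth.KTheory.LocFree.isFinLocFree_zero (hz i)⟩,
      fun i hi => ⟨⟨0, (hP i).eq_of_src _ _, (hK i (by omega)).eq_of_src _ _⟩⟩,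
      ⟨fun g g' _ => (hK m le_rfl).eq_of_src _ _⟩⟩
  | succ n ih =>
    intro X Y f _ hf E m hL hb
    let t : ℤ := m + n
    have htop : ∀ i, t < i → IsZero (DCoh.HD E i) := fun i hi => hb i (by push_cast; omega)
    obtain ⟨htopL, ⟨et⟩⟩ := Lpull_top f htop
    have hft : CohB1.IsFT (DCoh.HD E t) := isFT_descends hf _
      (Groth.QCohMod.isFT_of_iso et (PCoh.isFT_top (PCohDescent.pcoh_mono hL (by omega : m ≤ t)) htopL))
    refine PCoh.isPseudoCoherentD_of_local fun x => ?_
    obtain ⟨W, P, α, hx, hP, hα⟩ := PCohDescent.exists_near_free htop hft x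
    refine ⟨W, hx, ?_⟩
    have := KFlat.hasLpull (f ∣_ W)
    obtain ⟨c⟩ := PCoh.nonempty_rd_Lpull f W E
    obtain ⟨C, v, w, hT⟩ := distinguished_cocone_triangle α
    have hC : Below t C := PCoh.below_of_near _ hT hα
    obtain ⟨S, hS, ⟨i₁⟩, ⟨i₂⟩, ⟨i₃⟩⟩ := KFlat.exists_triangle (Scheme.Modules.pullback (f ∣_ W))
      (DCoh.Lpull (f ∣_ W)) (fun P hP => ⟨KFlat.lpullQIso _ P hP⟩) _ hT
    have hPp := Fibre.isPerfect_toD hP
    have h3 : DCoh.IsPseudoCoherentD m S.obj₃ := PCoh.isPseudoCoherentD_obj₃ S hS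
      (PCoh.isPseudoCoherentD_of_iso i₁.symm
        (PCoh.isPseudoCoherentD_of_isPerfect (PCoh.isPerfect_Lpull _ hPp) _))
      (PCoh.isPseudoCoherentD_of_iso (c ≪≫ i₂.symm) (PCohDescent.pcoh_rd _ hL))
    exact PCoh.isPseudoCoherentD_obj₂ (Triangle.mk α v w) hT
      (PCoh.isPseudoCoherentD_of_isPerfect hPp m)
      (ih (f ∣_ W) (hf.restrict W) C m (PCoh.isPseudoCoherentD_of_iso i₃ h3) fun i hi => hC i hi)

/-- Pseudo-coherence descends along nilpotent thickenings. -/
theorem pcoh_descends {f : X ⟶ Y} (hf : NilThick f) [DCoh.HasLpull f] (E : DCoh.D Y) (m : ℤ)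
    (h : DCoh.IsPseudoCoherentD m ((DCoh.Lpull f).obj E)) : DCoh.IsPseudoCoherentD m E := by
  refine PCoh.isPseudoCoherentD_of_local fun z => ?_
  obtain ⟨W, b, hzW, hb⟩ := exists_local_bound hf h z
  refine ⟨W, hzW, ?_⟩
  have := KFlat.hasLpull (f ∣_ W)
  obtain ⟨c⟩ := PCoh.nonempty_rd_Lpull f W E
  exact descend_aux (b + 1 - m).toNat (f ∣_ W) (hf.restrict W) _ m
    (PCoh.isPseudoCoherentD_of_iso c (PCohDescent.pcoh_rd _ h)) fun i hi => hb i (by omega)

end Groth.DerivedCoh.PCohNil
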