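import Groth.Agent.DAlg.NilpotentAmp
import Groth.Agent.DAlg.KFlatOps
import Groth.Agent.DAlg.ResTot
import Groth.Agent.DerivedCoh.KFlat.StalkCriterion
import Groth.Agent.KTheory.BaseCmpKFlat
import Groth.Agent.DerivedCoh.KFlat.SchemePullback
import Groth.Agent.DerivedCoh.PCohDescent.Main
import Groth.Agent.Ega4Algebra2.RegularImmersion

/-!
Inverse images along nilpotent thickenings, on stalks: upper bounds on cohomology and finite type.
-/

universe u

open CategoryTheory CategoryTheory.Limits AlgebraicGeometry HomologicalComplex TopologicalSpace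
open scoped TensorProduct
open Groth.QCohMod (res germ germ_res exists_germ pullGerm pullGerm_germ pullStalkEquiv pullStalkHom_tmul
  stalkAlg)
open Groth.PicAux (pullSec)
open Groth.DerivedCoh.KFlat (stk)

namespace Groth.DerivedCoh.PCohNil

attribute [local instance] HasDerivedCategory.standard
set_option linter.style.haveILetI false

local notation "up" => ComplexShape.up ℤ

/-- A morphism which is a homeomorphism on points with surjective stalk maps with nilpotent kernels. -/
def NilThick {X Y : Scheme.{u}} (f : X ⟶ Y) : Prop :=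
  IsHomeomorph f.base ∧ ∀ y : X, Function.Surjective (f.stalkMap y) ∧ IsNilpotent (RingHom.ker (f.stalkMap y).hom)

variable {X Y : Scheme.{u}}

theorem nilThick_of_finiteOrder {i : X ⟶ Y} (hi : MoreMor.IsFiniteOrderThickening i) : NilThick i := by
  obtain ⟨⟨hc, hs⟩, N, hN⟩ := hi
  haveI := hc
  refine ⟨?_, fun y => ⟨i.stalkMap_surjective y, N, ?_⟩⟩
  · exact isHomeomorph_iff_isEmbedding_surjective.2 ⟨i.isClosedEmbedding.isEmbedding, i.surjective⟩
  obtain ⟨U, hU, hy, -⟩ := exists_isAffineOpen_mem_and_subset (U := (⊤ : Y.Opens)) (x := i y) trivial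
  have h0 : (i.ker.ideal ⟨U, hU⟩) ^ N = ⊥ := by
    have := congr($(hN).ideal ⟨U, hU⟩)
    simpa using this
  rw [Groth.Ega4b.ker_stalkMap_eq_map i hU y hy, ← Ideal.map_pow]
  refine (congrArg _ h0).trans ?_
  rw [Ideal.map_bot, Ideal.zero_eq_bot]

theorem NilThick.restrict {f : X ⟶ Y} (h : NilThick f) (W : Y.Opens) : NilThick (f ∣_ W) := by
  refine ⟨?_, fun y => ?_⟩
  · rw [morphismRestrict_base]
    exact isHomeomorph_iff_isEmbedding_surjective.2
      ⟨Topology.IsEmbedding.restrictPreimage _ h.1.isEmbedding, Set.restrictPreimage_surjective _ h.1.surjective⟩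
  let e := morphismRestrictStalkMap f W y
  let a : (W : Scheme.{u}).presheaf.stalk ((f ∣_ W) y) ≅ Y.presheaf.stalk (f y.1) := Arrow.leftFunc.mapIso e
  let b : (f ⁻¹ᵁ W : Scheme.{u}).presheaf.stalk y ≅ X.presheaf.stalk y.1 := Arrow.rightFunc.mapIso e
  have hw : ∀ r, b.hom ((f ∣_ W).stalkMap y r) = f.stalkMap y.1 (a.hom r) := fun r =>
    (congr($(e.hom.w) r)).symm
  obtain ⟨hs, N, hN⟩ := h.2 y.1
  refine ⟨fun t => ?_, N, ?_⟩
  · obtain ⟨r, hr⟩ := hs (b.hom t)
    refine ⟨a.inv r, b.commRingCatIsoToRingEquiv.injective ?_⟩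
    show b.hom _ = b.hom t
    rw [hw, Iso.inv_hom_id_apply, hr]
  · have hle : (RingHom.ker ((f ∣_ W).stalkMap y).hom).map a.hom.hom ≤ RingHom.ker (f.stalkMap y.1).hom := by
      rw [Ideal.map_le_iff_le_comap]
      intro r hr
      rw [Ideal.mem_comap, RingHom.mem_ker, ← hw, show ((f ∣_ W).stalkMap y) r = 0 from hr, map_zero]
    refine Ideal.zero_eq_bot.trans ?_ |>.symm
    refine (Ideal.map_eq_bot_iff_of_injective (f := a.hom.hom) a.commRingCatIsoToRingEquiv.injective).1 ?_ |>.symm
    rw [Ideal.map_pow, eq_bot_iff]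
    exact (Ideal.pow_right_mono hle N).trans hN.le

/-- Upper bounds on the cohomology of K-flat complexes lift along nilpotent thickenings of rings. -/
theorem isZero_homology_of_kFlat {R S : Type u} [CommRing R] [CommRing S] (φ : R →+* S)
    (hs : Function.Surjective φ) (hn : IsNilpotent (RingHom.ker φ)) (P : DRing.Cx R)
    (hP : DAlg.KFlatMod.IsKFlatCx R P) {b : ℤ}
    (h : ∀ i, b < i → IsZero ((DAlg.extCx φ P).homology i)) (i : ℤ) (hi : b < i) : IsZero (P.homology i) := by
  algebraize [φ]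
  haveI := DAlg.hasLBaseChange (algebraMap R S)
  obtain ⟨Q, q, hQ, hq, -, -⟩ := DAlg.exists_kProjective_resolution P
  haveI := hQ
  haveI := hq
  haveI := Groth.BaseCmpKFlat.quasiIso_extCx_of_kFlat (algebraMap R S)
    (DAlg.isKFlatCx_of_isKProjective Q) hP q
  let eS : DRing.toD (DAlg.extCx (algebraMap R S) Q) ≅ DRing.toD (DAlg.extCx (algebraMap R S) P) :=
    asIso (DerivedCategory.Q.map
      (((ModuleCat.extendScalars (algebraMap R S)).mapHomologicalComplex up).map q))
  refine DAlg.isZero_homology_of_subsingleton (DAlg.subsingleton_HD_of_nilpotent hs hn (DRing.toD P) b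
    (fun j hj => ?_) i hi)
  exact (DAlg.HDCongr (eS.symm ≪≫ (DAlg.lBaseChangeIso (algebraMap R S) Q).symm ≪≫
    (DRing.LBaseChange (algebraMap R S)).mapIso (asIso (DerivedCategory.Q.map q))) j).toEquiv.subsingleton_congr.1
    (DAlg.subsingleton_HD_toD (h j hj))

/-- Upper bounds on the cohomology of K-flat complexes lift along nilpotent thickenings. -/
theorem isZero_stk_homology {f : X ⟶ Y} (hf : NilThick f) (P : CochainComplex Y.Modules ℤ)
    (hP : KFlat.IsKFlat (KFlat.T Y) P) (y : X) {b : ℤ}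
    (h : ∀ i, b < i → IsZero ((stk y).obj (((KFlat.pullCx f).obj P).homology i))) (i : ℤ) (hi : b < i) :
    IsZero ((stk (f y)).obj (P.homology i)) := by
  let F := Scheme.Modules.pullback f
  obtain ⟨hs, hn⟩ := hf.2 y
  refine IsZero.of_iso (isZero_homology_of_kFlat (f.stalkMap y).hom hs hn
    (((stk (f y)).mapHomologicalComplex up).obj P) ((KFlat.isKFlat_iff_stalk P).1 ((KFlat.isKFlat_iff P).2 hP) (f y))
    (fun j hj => ?_) i hi) ((P.sc i).mapHomologyIso (stk (f y))).symm
  refine IsZero.of_iso ((h j hj).of_iso ((((KFlat.pullCx f).obj P).sc j).mapHomologyIso (stk y))) ?_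
  exact (homologyFunctor _ up j).mapIso
    ((NatIso.mapHomologicalComplex (KFlat.pullStkIso f y) up).app P).symm

section FT

variable {R S : Type u} [CommRing R] [CommRing S] [Algebra R S]

/-- Nakayama for nilpotent kernels. -/
theorem eq_top_of_baseChange (hs : Function.Surjective (algebraMap R S))
    (hn : IsNilpotent (RingHom.ker (algebraMap R S))) {M : Type u} [AddCommGroup M] [Module R M] (N : Submodule R M)
    (h : Function.Surjective (N.subtype.baseChange S)) : N = ⊤ := by
  let I := RingHom.ker (algebraMap R S)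
  have h1 : (⊤ : Submodule R M) ≤ N ⊔ I • ⊤ := by
    intro x _
    obtain ⟨w, hw⟩ := h (1 ⊗ₜ[R] x)
    have key : ∀ w : S ⊗[R] N, ∃ n ∈ N, N.subtype.baseChange S w = (1 : S) ⊗ₜ[R] n := fun w => by
      induction w with
      | zero => exact ⟨0, zero_mem _, by simp⟩
      | tmul c n =>
        obtain ⟨c, rfl⟩ := hs c
        exact ⟨c • n, N.smul_mem c n.2, by
          simp [TensorProduct.smul_tmul', Algebra.algebraMap_eq_smul_one]⟩
      | add u v hu hv =>
        obtain ⟨a, ha, hua⟩ := hu
        obtain ⟨c, hc, hvc⟩ := hv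
        exact ⟨a + c, add_mem ha hc, by rw [map_add, hua, hvc, TensorProduct.tmul_add]⟩
    obtain ⟨n, hnN, hwn⟩ := key w
    refine Submodule.mem_sup.2 ⟨n, hnN, x - n, ?_, by abel⟩
    have hex : Function.Exact I.subtype (Algebra.linearMap R S) := fun r => by
      simp [I, RingHom.mem_ker]
    obtain ⟨t, ht⟩ := (rTensor_exact M hex hs ((1 : R) ⊗ₜ[R] (x - n))).1 (by
      show (Algebra.linearMap R S 1) ⊗ₜ[R] (x - n) = 0
      rw [Algebra.linearMap_apply, map_one, TensorProduct.tmul_sub, sub_eq_zero]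
      exact hw.symm.trans hwn)
    have key' : ∀ t, TensorProduct.lid R M (I.subtype.rTensor M t) ∈ I • (⊤ : Submodule R M) := fun t => by
      induction t with
      | zero => simp
      | tmul i q => simpa using Submodule.smul_mem_smul i.2 (Submodule.mem_top (x := q))
      | add u v hu hv => rw [map_add, map_add]; exact add_mem hu hv
    simpa [ht] using key' t
  obtain ⟨k, hk⟩ := hn
  have h2 : ∀ j : ℕ, (⊤ : Submodule R M) ≤ N ⊔ I ^ j • ⊤ := by
    intro j
    induction j with
    | zero => simp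
    | succ j ih =>
      refine h1.trans (sup_le le_sup_left ((Submodule.smul_mono le_rfl ih).trans ?_))
      rw [Submodule.smul_sup, ← Submodule.smul_assoc, smul_eq_mul, ← pow_succ']
      exact sup_le (Submodule.smul_le_right.trans le_sup_left) le_sup_right
  have := h2 k
  rw [hk, Submodule.zero_eq_bot, Submodule.bot_smul, sup_bot_eq] at this
  exact top_le_iff.1 this

end FT

/-- A set whose image spans the stalk of the inverse image spans the stalk. -/
theorem span_eq_top_of_pullGerm {g : X ⟶ Y} (hg : NilThick g) (F : Y.Modules) (y : X)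
    (T : Set (F.presheaf.stalk (g y)))
    (hT : Submodule.span (X.presheaf.stalk y) (pullGerm g F y '' T) = ⊤) :
    Submodule.span (Y.presheaf.stalk (g y)) T = ⊤ := by
  letI := stalkAlg g y
  refine eq_top_of_baseChange (R := Y.presheaf.stalk (g y)) (S := X.presheaf.stalk y) (hg.2 y).1 (hg.2 y).2 _ ?_
  let N := Submodule.span (Y.presheaf.stalk (g y)) T
  intro z
  have hz : pullStalkEquiv g F y z ∈ Submodule.span _ (pullGerm g F y '' T) := hT.ge trivial
  have : Submodule.span (X.presheaf.stalk y) (pullGerm g F y '' T) ≤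
      (LinearMap.range (N.subtype.baseChange (X.presheaf.stalk y))).map
        (pullStalkEquiv g F y).toLinearMap := by
    rw [Submodule.span_le]
    rintro _ ⟨t, ht, rfl⟩
    refine ⟨1 ⊗ₜ t, ⟨1 ⊗ₜ ⟨t, Submodule.subset_span ht⟩, rfl⟩, ?_⟩
    show QCohMod.pullStalkHom g F y (1 ⊗ₜ t) = _
    rw [pullStalkHom_tmul, one_smul]
  obtain ⟨w, ⟨v, hv⟩, hwz⟩ := this hz
  exact ⟨v, hv.trans ((pullStalkEquiv g F y).injective hwz)⟩

/-- Finite type descends along nilpotent thickenings, for arbitrary modules. -/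
theorem isFT_descends {f : X ⟶ Y} (hf : NilThick f) (M : Y.Modules)
    (h : CohB1.IsFT ((Scheme.Modules.pullback f).obj M)) : CohB1.IsFT M := by
  classical
  refine DescentBase.FTOpen.isFT_of_local_span M fun x => ?_
  obtain ⟨y, rfl⟩ := hf.1.surjective x
  obtain ⟨V, hV, ι, hι, v, hv⟩ := VectorBundles.RefHullStalk.exists_spans_of_isFT _ h y
  obtain ⟨T, hT⟩ := PCohDescent.exists_finset_pullGerm_span f M y _ (hv y hV)
  let K : Type u := {t // t ∈ T}
  choose O hO m hm using fun t : K => exists_germ M (f y) t.1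
  let U : Y.Opens := Finset.univ.inf O
  have hU : f y ∈ U := by
    show f y ∈ ((Finset.univ.inf O : Y.Opens) : Set Y)
    rw [Opens.coe_finset_inf]
    simp only [Finset.inf_set_eq_iInter, Set.mem_iInter]
    exact fun k _ => hO k
  let s : K → Γ(M, U) := fun t => res M (Finset.inf_le (Finset.mem_univ t)) (m t)
  have hz' : y ∈ f ⁻¹ᵁ U := hU
  have ht : Submodule.span (X.presheaf.stalk y) (Set.range fun k =>
      germ ((Scheme.Modules.pullback f).obj M) y hz' (pullSec f M (s k))) = ⊤ := by
    refine eq_top_iff.2 (hT.ge.trans (Submodule.span_mono ?_))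
    rintro _ ⟨t, ht, rfl⟩
    exact ⟨⟨t, ht⟩, (pullGerm_germ f M y hU _).symm.trans
      (congrArg _ ((germ_res M _ (f y) hU _).trans (hm ⟨t, ht⟩)))⟩
  obtain ⟨W', hW', hle, hspan⟩ :=
    DescentBase.LocGenFpqc.exists_nhd_span _ hV hz' v (fun k => pullSec f M (s k)) hv ht
  let Wo : Y.Opens := ⟨f.base '' W', hf.1.isOpenMap _ W'.2⟩
  have hWU : Wo ≤ U := fun x hx => by
    obtain ⟨w, hw, rfl⟩ := hx
    exact hle hw
  refine ⟨Wo, ⟨y, hW', rfl⟩, K, inferInstance, fun k => res M hWU (s k), fun z hz => ?_⟩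
  obtain ⟨w, hw, rfl⟩ := id hz
  refine span_eq_top_of_pullGerm hf M w _ (eq_top_iff.2 ((hspan w hw).ge.trans (Submodule.span_mono ?_)))
  rintro _ ⟨k, rfl⟩
  exact ⟨_, ⟨k, rfl⟩, (congrArg _ (germ_res M _ (f w) hz _)).trans
    ((pullGerm_germ f M w _ _).trans (germ_res ((Scheme.Modules.pullback f).obj M) hle w hw (pullSec f M (s k))).symm)⟩

end Groth.DerivedCoh.PCohNil
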